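import Groth.Prelude.Def_SixF1
import Mathlib.CategoryTheory.Preadditive.Injective.Preserves

/-! Composition of bounded below derived functors when the first preserves injectives. -/

universe w₁ w₂ w₃ v₁ v₂ v₃ u₁ u₂ u₃

open CategoryTheory CategoryTheory.Limits

set_option linter.style.haveILetI false

namespace Groth.Agent.RPlusComp3

section
variable {A : Type u₁} [Category.{v₁} A] [Abelian A] {B : Type u₂} [Category.{v₂} B] [Abelian B]

theorem isIso_plusNatTrans {F G : A ⥤ B} [F.Additive] [G.Additive] (α : F ⟶ G) [IsIso α] :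
    IsIso (EtSix.plusNatTrans α) := by
  let β := asIso α
  haveI : IsIso (NatTrans.mapHomotopyCategory α (ComplexShape.up ℤ)) :=
    ⟨NatTrans.mapHomotopyCategory β.inv _,
      by rw [← NatTrans.mapHomotopyCategory_comp, show α ≫ β.inv = 𝟙 F from β.hom_inv_id, NatTrans.mapHomotopyCategory_id],
      by rw [← NatTrans.mapHomotopyCategory_comp, show β.inv ≫ α = 𝟙 G from β.inv_hom_id, NatTrans.mapHomotopyCategory_id]⟩
  let e := ((HomotopyCategory.plus B).fullyFaithfulι.whiskeringRight (HomotopyCategory.Plus A))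
  have h : EtSix.plusNatTrans α = (e.preimageIso (X := F.mapHomotopyCategoryPlus) (Y := G.mapHomotopyCategoryPlus)
      (Functor.isoWhiskerLeft (HomotopyCategory.Plus.ι A)
        (asIso (NatTrans.mapHomotopyCategory α (ComplexShape.up ℤ))))).hom := rfl
  rw [h]
  infer_instance

end

variable {A : Type u₁} [Category.{v₁} A] [Abelian A] {B : Type u₂} [Category.{v₂} B] [Abelian B]
  {C : Type u₃} [Category.{v₃} C] [Abelian C]
  [HasDerivedCategory.{w₁} A] [HasDerivedCategory.{w₂} B] [HasDerivedCategory.{w₃} C]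

theorem isRightDerivedFunctor_comp [EnoughInjectives A] [EnoughInjectives B]
    {F : A ⥤ B} {G : B ⥤ C} {H : A ⥤ C} [F.Additive] [G.Additive] [H.Additive]
    [F.PreservesInjectiveObjects] (θ : H ⟶ F ⋙ G) [IsIso θ] :
    (F.rightDerivedFunctorPlus ⋙ G.rightDerivedFunctorPlus).IsRightDerivedFunctor
      (EtSix.rPlusUnit₂ θ) (HomotopyCategory.Plus.quasiIso A) := by
  refine (HomotopyCategory.Plus.localizerMorphism_derives _).isRightDerivedFunctor_of_isIso _ fun Y => ?_
  obtain ⟨Y, rfl⟩ := HomotopyCategory.Plus.quotient_obj_surjective Y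
  let K := (InjectiveObject.ι A).mapCochainComplexPlus.obj Y
  haveI hinj : ∀ n, Injective (K.obj.X n) := fun n => (Y.obj.X n).property
  haveI hinj' : ∀ n, Injective ((F.mapCochainComplexPlus.obj K).obj.X n) :=
    fun n => F.injective_obj (K.obj.X n)
  have hK : IsIso (G.rightDerivedFunctorPlusUnit.app
      ((HomotopyCategory.Plus.quotient B).obj (F.mapCochainComplexPlus.obj K))) := inferInstance
  have hK' : IsIso (G.rightDerivedFunctorPlusUnit.app
      (F.mapHomotopyCategoryPlus.obj ((HomotopyCategory.Plus.quotient A).obj K))) := hK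
  have hF : IsIso (F.rightDerivedFunctorPlusUnit.app ((HomotopyCategory.Plus.quotient A).obj K)) := inferInstance
  haveI := isIso_plusNatTrans θ
  have h1 : IsIso (EtSix.plusNatTrans θ ≫ (Functor.mapHomotopyCategoryPlusCompIso (Iso.refl (F ⋙ G))).inv) :=
    inferInstance
  simp only [EtSix.rPlusUnit₂, NatTrans.comp_app, Functor.whiskerRight_app, Functor.whiskerLeft_app,
    Functor.associator_hom_app, Functor.associator_inv_app]
  refine @IsIso.comp_isIso _ _ _ _ _ _ _ inferInstance ?_
  refine @IsIso.comp_isIso _ _ _ _ _ _ _ inferInstance ?_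
  refine @IsIso.comp_isIso _ _ _ _ _ _ _ hK' ?_
  refine @IsIso.comp_isIso _ _ _ _ _ _ _ inferInstance ?_
  refine @IsIso.comp_isIso _ _ _ _ _ _ _ ?_ inferInstance
  exact @Functor.map_isIso _ _ _ _ _ _ G.rightDerivedFunctorPlus _ hF

/-- The canonical map is an isomorphism when `F` preserves injectives. -/
theorem isIso_rPlusDesc₂ [EnoughInjectives A] [EnoughInjectives B]
    {F : A ⥤ B} {G : B ⥤ C} {H : A ⥤ C} [F.Additive] [G.Additive] [H.Additive]
    [F.PreservesInjectiveObjects] (θ : H ⟶ F ⋙ G) [IsIso θ] :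
    IsIso (EtSix.rPlusDesc₂ θ) :=
  (Functor.isRightDerivedFunctor_iff_isIso_rightDerivedDesc _ H.rightDerivedFunctorPlusUnit
    (HomotopyCategory.Plus.quasiIso A) _ _).1 (isRightDerivedFunctor_comp θ)

end Groth.Agent.RPlusComp3
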